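import Cfsg.Agent.H825.KS.Tools
import Cfsg.Agent.KFacts.ON.Aut
import Cfsg.Agent.KFacts.ON.OneClass
import Cfsg.Agent.SevenLow.MTwelve

/-!
# S4577: the rows `M12` and `O'N` (helper640)

* `E_M12` : `M12` has 2-rank 3;
* `E_ON` : `O_2(C(f)) ≥ ⟨v⟩`, cyclic of order 4, and `O'N` has one class of involutions.
-/

set_option autoImplicit false

open Cfsg Subgroup Cfsg.Agent.H613.KS
open Cfsg.Spor (ON)
open Cfsg.Agent.SporadicB.ON45Word (on)
open Cfsg.Agent.KFacts.ON.Words Cfsg.Agent.KFacts.ON.Struct Cfsg.Agent.KFacts.ON.Qs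
open Cfsg.Agent.KFacts.ON.OneClass (one_class)
open Cfsg.Agent.ONType.TupK (K0)

namespace Cfsg.Agent.H640.KS

/-- **the row `M12`** -/
theorem E_M12 {S : Type*} [Group S] [Finite S] (h : Spor.IsoM12 S) : NoCfg S := by
  intro D x hc
  have h1 := Cfsg.Agent.SevenLow.MTwelve.low h D
    ⟨⟨fun a b => Subtype.ext (Cfsg.Agent.H825.KS.cfg_comm hc a a.2 b b.2)⟩⟩
    (fun a ha => by rw [pow_two]; exact hc.e16.inv a ha)
  rw [hc.e16.card] at h1
  norm_num at h1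

/-- **the row `O'N`** -/
theorem E_ON {S : Type*} [Group S] [Finite S] (h : Spor.IsoON S) : NoCfg S := by
  obtain ⟨e⟩ := h
  refine Cfsg.Agent.H825.KS.noCfg_congr e ?_
  intro D x hc
  obtain ⟨a, ha, ha1⟩ := Cfsg.Agent.H825.KS.exists_ne_one hc
  have hN2 : IsPGroup 2 (zpowers v) := by
    rintro ⟨u, hu⟩
    refine ⟨2, Subtype.ext ?_⟩
    show u ^ (2 ^ 2) = 1
    obtain ⟨k, rfl⟩ := mem_zpowers_iff.1 hu
    rw [← zpow_natCast, ← zpow_mul, mul_comm, zpow_mul]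
    have : v ^ ((2 ^ 2 : ℕ) : ℤ) = 1 := by
      rw [zpow_natCast]; exact v4
    rw [this, one_zpow]
  refine Cfsg.Agent.H825.KS.not_mem (z := on .f) hN2 ?_ ?_ (Or.inl ⟨v, mem_zpowers v, ?_⟩) hc ha
    (one_class (hc.e16.inv a ha) ha1).symm
  · rw [zpowers_le]
    exact mem_centralizer_singleton_iff.2 (mem_K0.1 (J_le vJ))
  · intro c hc n hn
    obtain ⟨k, rfl⟩ := mem_zpowers_iff.1 hn
    have h1 : c ∈ K0 := mem_K0.2 (mem_centralizer_singleton_iff.1 hc)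
    rw [← conj_zpow]
    rcases conj_v h1 with h2 | h2
    · rw [h2]; exact zpow_mem (mem_zpowers v) k
    · rw [h2]; exact zpow_mem (inv_mem (mem_zpowers v)) k
  · rw [vv]; exact f_ne_one

end Cfsg.Agent.H640.KS
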